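import Groth.Agent.CatSpaceLib.Scheme

/-!
A catenary locally noetherian scheme has dimension functions locally.
-/

set_option autoImplicit false

universe u

open CategoryTheory AlgebraicGeometry Topology TopologicalSpace

namespace Groth.Agent.CatSpaceLib

open DimFormulaLib in
/-- Near a given prime, a catenary noetherian ring has a dimension function. -/
theorem exists_local_rank {R : Type u} [CommRing R] [IsNoetherianRing R] (hR : CAlg.IsCatenary R)
    (s : PrimeSpectrum R) :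
    ∃ g ∉ s.asIdeal, ∃ δ : PrimeSpectrum R → ℤ, ∀ Q Q' : PrimeSpectrum R, Q ≤ Q' → g ∉ Q'.asIdeal →
      ∃ n : ℕ, relHeight Q Q' = n ∧ δ Q = δ Q' + n := by
  classical
  have hfinR : (minimalPrimes R).Finite := minimalPrimes.finite_of_isNoetherianRing R
  let M : Set (Ideal R) := ⋃ P ∈ minimalPrimes R, ⋃ P' ∈ minimalPrimes R, (P ⊔ P').minimalPrimes
  have hM : M.Finite :=
    hfinR.biUnion fun P _ => hfinR.biUnion fun P' _ => Ideal.finite_minimalPrimes_of_isNoetherianRing R _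
  have hch : ∀ Z : Ideal R, ∃ g ∉ s.asIdeal, ¬Z ≤ s.asIdeal → g ∈ Z := fun Z => by
    by_cases h : Z ≤ s.asIdeal
    · exact ⟨1, fun h' => s.isPrime.ne_top ((Ideal.eq_top_iff_one _).2 h'), fun h' => absurd h h'⟩
    · obtain ⟨g, hg, hg'⟩ := SetLike.not_le_iff_exists.1 h
      exact ⟨g, hg', fun _ => hg⟩
  choose g hgs hg using hch
  let G := ∏ Z ∈ hM.toFinset, g Z
  have hGs : G ∉ s.asIdeal := fun h => by
    obtain ⟨Z, -, hZ⟩ := (s.isPrime.prod_mem_iff).1 h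
    exact hgs Z hZ
  have hGZ : ∀ Z ∈ M, G ∉ Z → Z ≤ s.asIdeal := fun Z hZ hG => by
    by_contra h
    exact hG (Ideal.mem_of_dvd _ (Finset.dvd_prod_of_mem g (hM.mem_toFinset.2 hZ)) (hg Z h))
  have hrel : ∀ {P Q : PrimeSpectrum R}, P ≤ Q → ∃ n : ℕ, relHeight P Q = n := fun {P Q} h => by
    obtain ⟨n, -, hn, -⟩ := exists_saturated_between h
    exact ⟨n, hn⟩
  let r : PrimeSpectrum R → PrimeSpectrum R → ℤ := fun P Q => ((relHeight P Q).toNat : ℤ)
  have hr : ∀ {P Q Q' : PrimeSpectrum R}, P ≤ Q → Q ≤ Q' → r P Q' = r P Q + r Q Q' := fun {P Q Q'} h h' => by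
    obtain ⟨a, ha⟩ := hrel h
    obtain ⟨b, hb⟩ := hrel h'
    have := relHeight_add hR h h'
    simp only [r, this, ha, hb]
    rw [← Nat.cast_add, ENat.toNat_natCast, ENat.toNat_natCast, ENat.toNat_natCast]
    push_cast
    ring
  let D : PrimeSpectrum R → PrimeSpectrum R → ℤ := fun P Q => r P s - r P Q
  have hD : ∀ {P P' Q : PrimeSpectrum R}, IsMin P → IsMin P' → P ≤ Q → P' ≤ Q → G ∉ Q.asIdeal →
      D P Q = D P' Q := fun {P P' Q} hP hP' h h' hQ => by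
    obtain ⟨Z, hZ, hZQ⟩ := Ideal.exists_minimalPrimes_le (I := P.asIdeal ⊔ P'.asIdeal) (J := Q.asIdeal)
      (sup_le h h')
    let Zp : PrimeSpectrum R := ⟨Z, hZ.1.1⟩
    have hZs : Zp ≤ s := hGZ Z (Set.mem_biUnion (PrimeSpectrum.isMin_iff.1 hP)
      (Set.mem_biUnion (PrimeSpectrum.isMin_iff.1 hP') hZ)) fun hh => hQ (hZQ hh)
    have h1 : P ≤ Zp := le_sup_left.trans hZ.1.2
    have h2 : P' ≤ Zp := le_sup_right.trans hZ.1.2
    show r P s - r P Q = r P' s - r P' Q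
    rw [hr h1 hZs, hr h1 hZQ, hr h2 hZs, hr h2 hZQ]
    ring
  have hmin : ∀ Q : PrimeSpectrum R, ∃ P, IsMin P ∧ P ≤ Q := fun Q => by
    obtain ⟨P, hP, hPQ⟩ := Ideal.exists_minimalPrimes_le (I := (⊥ : Ideal R)) (J := Q.asIdeal) bot_le
    exact ⟨⟨P, hP.1.1⟩, PrimeSpectrum.isMin_iff.2 hP, hPQ⟩
  choose μ hμ hμle using hmin
  refine ⟨G, hGs, fun Q => D (μ Q) Q, fun Q Q' h hG => ?_⟩
  obtain ⟨n, hn⟩ := hrel h
  refine ⟨n, hn, ?_⟩
  show D (μ Q) Q = D (μ Q') Q' + (n : ℤ)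
  rw [← hD (hμ Q) (hμ Q') ((hμle Q).trans h) (hμle Q') hG]
  show r (μ Q) s - r (μ Q) Q = r (μ Q) s - r (μ Q) Q' + (n : ℤ)
  rw [hr (hμle Q) h, show r Q Q' = n by simp only [r, hn, ENat.toNat_natCast]]
  ring

theorem exists_dimensionFunction {S : Scheme.{u}} [IsLocallyNoetherian S] (h : PtTop.IsCatenarySpace S) (s : S) :
    ∃ U : S.Opens, s ∈ U ∧ ∃ δ : U → ℤ, PtTop.IsDimensionFunction δ := by
  obtain ⟨V, hs⟩ := exists_affine s
  haveI : IsNoetherianRing Γ(S, V.1) := IsLocallyNoetherian.component_noetherian V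
  let j := V.2.fromSpec
  obtain ⟨s', hs'⟩ : s ∈ Set.range j := by rw [V.2.range_fromSpec]; exact hs
  obtain ⟨G, hG, δ, hδ⟩ := exists_local_rank (isCatenary_of_affine h V) (s' : PrimeSpectrum Γ(S, V.1))
  let U : S.Opens := j ''ᵁ PrimeSpectrum.basicOpen G
  have hpre : ∀ y : U, ∃ P : PrimeSpectrum Γ(S, V.1), G ∉ P.asIdeal ∧ j P = y.1 := fun y => by
    obtain ⟨P, hP, he⟩ := y.2
    exact ⟨P, hP, he⟩
  choose π hπG hπ using hpre
  have hle : ∀ {x y : U}, x ⤳ y ↔ π x ≤ π y := fun {x y} => by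
    rw [PrimeSpectrum.le_iff_specializes, subtype_specializes_iff, ← hπ x, ← hπ y]
    exact j.isOpenEmbedding.isInducing.specializes_iff
  have hinj : ∀ {x y : U}, π x = π y → x = y := fun {x y} e => Subtype.ext (by rw [← hπ x, e, hπ y])
  refine ⟨U, ⟨s', hG, hs'⟩, fun y => δ (π y), fun x y hxy hne => ?_, fun x y hxy => ?_⟩
  · obtain ⟨n, hn, he⟩ := hδ _ _ (hle.1 hxy) (hπG y)
    have hlt : π x < π y := lt_of_le_of_ne (hle.1 hxy) fun e => hne (hinj e)
    have h1 := DimFormulaLib.one_add_relHeight_le (Q := π y) hlt le_rfl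
    rw [DimFormulaLib.relHeight_self, hn] at h1
    have h2 : 1 ≤ n := by simpa using h1
    show δ (π y) < δ (π x)
    omega
  · obtain ⟨hsp, hne, himm⟩ := hxy
    obtain ⟨n, hn, he⟩ := hδ _ _ (hle.1 hsp) (hπG y)
    have hcov : π x ⋖ π y := ⟨lt_of_le_of_ne (hle.1 hsp) fun e => hne (hinj e), fun P h1 h2 => by
      have hP : G ∉ P.asIdeal := fun hh => hπG y (h2.le hh)
      have hz : j P ∈ U := ⟨P, hP, rfl⟩
      have hπz : π ⟨j P, hz⟩ = P := j.isOpenEmbedding.injective (hπ ⟨j P, hz⟩)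
      rcases himm ⟨j P, hz⟩ (hle.2 (by rw [hπz]; exact h1.le)) (hle.2 (by rw [hπz]; exact h2.le)) with e | e
      · exact h1.ne' (by rw [← hπz, e])
      · exact h2.ne (by rw [← hπz, e])⟩
    rw [DimFormulaLib.relHeight_covBy hcov] at hn
    have h1 : n = 1 := by exact_mod_cast hn.symm
    show δ (π x) = δ (π y) + 1
    rw [he, h1]
    rfl

theorem isCatenarySpace_iff_dimensionFunction (S : Scheme.{u}) [IsLocallyNoetherian S] :
    PtTop.IsCatenarySpace S ↔ ∀ s : S, ∃ U : S.Opens, s ∈ U ∧ ∃ δ : U → ℤ, PtTop.IsDimensionFunction δ := by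
  refine ⟨fun h s => exists_dimensionFunction h s, fun h => isCatenarySpace_iff_cover.2 fun s => ?_⟩
  obtain ⟨U, hs, δ, hδ⟩ := h s
  haveI : QuasiSober ↥U := (inferInstance : QuasiSober ↥U.toScheme)
  exact ⟨U, hs, isCatenarySpace_iff.2 (rank_of_dimensionFunction δ hδ).1⟩

end Groth.Agent.CatSpaceLib
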