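import Mathlib
import Groth.Prelude.Def_Found
import Groth.Prelude.Def_W4stktopologysheavesDim

/-!
Catenary orders and catenary topological spaces.
-/

set_option autoImplicit false

namespace Groth.Agent.CatSpaceLib

open TopologicalSpace Topology

universe u v

variable {α : Type u} [PartialOrder α]

/-- A catenary order: intervals have bounded chains and all saturated chains in an interval have the same length. -/
def CatOrd (α : Type u) [PartialOrder α] : Prop :=
  (∀ p q : α, p ≤ q → ∃ n : ℕ, ∀ s : LTSeries α, s.head = p → s.last = q → s.length ≤ n) ∧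
  ∀ s t : LTSeries α, s.head = t.head → s.last = t.last →
    (∀ i : Fin s.length, s (Fin.castSucc i) ⋖ s (Fin.succ i)) →
    (∀ i : Fin t.length, t (Fin.castSucc i) ⋖ t (Fin.succ i)) →
    s.length = t.length

theorem catOrd_of_convex {β : Type v} [PartialOrder β] (Φ : β ↪o α) (hΦ : (Set.range Φ).OrdConnected)
    (h : CatOrd α) : CatOrd β := by
  obtain ⟨h1, h2⟩ := h
  refine ⟨fun p q hpq => ?_, fun s t hh hl hs ht => ?_⟩
  · obtain ⟨n, hn⟩ := h1 (Φ p) (Φ q) (Φ.monotone hpq)
    exact ⟨n, fun s hs hs' => hn (s.map Φ Φ.strictMono) (by rw [LTSeries.head_map, hs]) (by rw [LTSeries.last_map, hs'])⟩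
  · exact h2 (s.map Φ Φ.strictMono) (t.map Φ Φ.strictMono) (by rw [LTSeries.head_map, LTSeries.head_map, hh])
      (by rw [LTSeries.last_map, LTSeries.last_map, hl])
      (fun i => (hs i).image Φ hΦ) (fun i => (ht i).image Φ hΦ)

/-- Catenarity is local for a cover by convex pieces which contain whole intervals above their points. -/
theorem catOrd_of_cover {ι : Type*} (β : ι → Type v) [∀ i, PartialOrder (β i)] (Φ : ∀ i, β i ↪o α)
    (hcov : ∀ a, ∃ i, ∀ b, a ≤ b → b ∈ Set.range (Φ i)) (h : ∀ i, CatOrd (β i)) : CatOrd α := by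
  refine ⟨fun p q hpq => ?_, fun s t hh hl hs ht => ?_⟩
  · obtain ⟨i, hi⟩ := hcov p
    obtain ⟨p', rfl⟩ := hi p le_rfl
    obtain ⟨q', rfl⟩ := hi q hpq
    obtain ⟨n, hn⟩ := (h i).1 p' q' ((Φ i).le_iff_le.1 hpq)
    refine ⟨n, fun s hs hs' => ?_⟩
    choose g hg using fun j => hi (s j) (hs ▸ s.monotone (Fin.zero_le j))
    exact hn ⟨s.length, g, fun j => (Φ i).lt_iff_lt.1 (by rw [hg, hg]; exact s.step j)⟩
      ((Φ i).injective ((hg 0).trans hs)) ((Φ i).injective ((hg _).trans hs'))
  · obtain ⟨i, hi⟩ := hcov s.head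
    choose g hg using fun j => hi (s j) (s.monotone (Fin.zero_le j))
    choose k hk using fun j => hi (t j) (hh ▸ t.monotone (Fin.zero_le j))
    have hcov' : ∀ {a b : β i}, Φ i a ⋖ Φ i b → a ⋖ b := fun hab => hab.of_image (Φ i)
    refine (h i).2 ⟨s.length, g, fun j => (Φ i).lt_iff_lt.1 (by rw [hg, hg]; exact s.step j)⟩
      ⟨t.length, k, fun j => (Φ i).lt_iff_lt.1 (by rw [hk, hk]; exact t.step j)⟩
      ((Φ i).injective ((hg 0).trans (hh.trans (hk 0).symm))) ((Φ i).injective ((hg _).trans (hl.trans (hk _).symm)))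
      (fun j => hcov' ?_) (fun j => hcov' ?_)
    · show Φ i (g j.castSucc) ⋖ Φ i (g j.succ)
      rw [hg, hg]; exact hs j
    · show Φ i (k j.castSucc) ⋖ Φ i (k j.succ)
      rw [hk, hk]; exact ht j

theorem catOrd_dual (h : CatOrd α) : CatOrd αᵒᵈ := by
  refine ⟨fun p q hpq => ?_, fun s t hh hl hs ht => ?_⟩
  · obtain ⟨n, hn⟩ := h.1 (OrderDual.ofDual q) (OrderDual.ofDual p) hpq
    refine ⟨n, fun s hs hs' => ?_⟩
    exact hn (⟨s.length, fun i => OrderDual.ofDual (s i.rev), fun i => by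
        show OrderDual.ofDual (s i.castSucc.rev) < OrderDual.ofDual (s i.succ.rev)
        rw [Fin.rev_castSucc, Fin.rev_succ]
        exact s.step i.rev⟩ : LTSeries α)
      (by show OrderDual.ofDual (s (Fin.rev 0)) = _; rw [Fin.rev_zero]; exact congrArg OrderDual.ofDual hs')
      (by show OrderDual.ofDual (s (Fin.rev (Fin.last _))) = _; rw [Fin.rev_last]; exact congrArg OrderDual.ofDual hs)
  · let r : LTSeries αᵒᵈ → LTSeries α := fun s => ⟨s.length, fun i => OrderDual.ofDual (s i.rev), fun i => by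
      show OrderDual.ofDual (s i.castSucc.rev) < OrderDual.ofDual (s i.succ.rev)
      rw [Fin.rev_castSucc, Fin.rev_succ]
      exact s.step i.rev⟩
    refine h.2 (r s) (r t) ?_ ?_ (fun i => ?_) (fun i => ?_)
    · show OrderDual.ofDual (s (Fin.rev 0)) = OrderDual.ofDual (t (Fin.rev 0))
      rw [Fin.rev_zero, Fin.rev_zero]; exact congrArg OrderDual.ofDual hl
    · show OrderDual.ofDual (s (Fin.rev (Fin.last _))) = OrderDual.ofDual (t (Fin.rev (Fin.last _)))
      rw [Fin.rev_last, Fin.rev_last]; exact congrArg OrderDual.ofDual hh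
    · show OrderDual.ofDual (s i.castSucc.rev) ⋖ OrderDual.ofDual (s i.succ.rev)
      rw [Fin.rev_castSucc, Fin.rev_succ]
      exact (hs i.rev).ofDual
    · show OrderDual.ofDual (t i.castSucc.rev) ⋖ OrderDual.ofDual (t i.succ.rev)
      rw [Fin.rev_castSucc, Fin.rev_succ]
      exact (ht i.rev).ofDual

theorem catOrd_of_dual (h : CatOrd αᵒᵈ) : CatOrd α :=
  catOrd_of_convex (OrderIso.dualDual α).toOrderEmbedding
    ⟨fun _ _ _ _ z _ => ⟨(OrderIso.dualDual α).symm z, (OrderIso.dualDual α).apply_symm_apply z⟩⟩ (catOrd_dual h)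

/-- The codimension of `a` in `b`. -/
noncomputable def dist (a b : α) : ℕ∞ :=
  ⨆ (s : LTSeries α) (_ : s.head = a ∧ s.last ≤ b), (s.length : ℕ∞)

/-- A maximal chain in a bounded interval is saturated and computes the codimension. -/
theorem exists_saturated {a b : α} (hab : a ≤ b) {n : ℕ}
    (hn : ∀ s : LTSeries α, s.head = a → s.last = b → s.length ≤ n) :
    ∃ s : LTSeries α, s.head = a ∧ s.last = b ∧ dist a b = s.length ∧
      ∀ i : Fin s.length, s (Fin.castSucc i) ⋖ s (Fin.succ i) := by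
  classical
  have hext : ∀ s : LTSeries α, s.head = a → s.last ≤ b →
      ∃ t : LTSeries α, t.head = a ∧ t.last = b ∧ s.length ≤ t.length := by
    intro s hs hs'
    rcases hs'.eq_or_lt with h | h
    · exact ⟨s, hs, h, le_rfl⟩
    · exact ⟨s.snoc b h, by rw [RelSeries.head_snoc, hs], RelSeries.last_snoc _ _ _, Nat.le_succ _⟩
  obtain ⟨t₀, ht₀, ht₀', -⟩ := hext (RelSeries.singleton _ a) rfl hab
  let P : ℕ → Prop := fun k => ∃ s : LTSeries α, s.head = a ∧ s.last = b ∧ s.length = k
  have hP : P (Nat.findGreatest P n) :=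
    Nat.findGreatest_spec (P := P) (hn t₀ ht₀ ht₀') ⟨t₀, ht₀, ht₀', rfl⟩
  obtain ⟨s, hs, hs', hsl⟩ := hP
  have hmax : ∀ t : LTSeries α, t.head = a → t.last ≤ b → t.length ≤ s.length := fun t ht ht' => by
    obtain ⟨t', h1, h2, h3⟩ := hext t ht ht'
    exact h3.trans (hsl ▸ Nat.le_findGreatest (P := P) (hn t' h1 h2) ⟨t', h1, h2, rfl⟩)
  refine ⟨s, hs, hs', le_antisymm (iSup₂_le fun t ht => by exact_mod_cast hmax t ht.1 ht.2)
    (le_iSup₂ (f := fun (t : LTSeries α) (_ : t.head = a ∧ t.last ≤ b) => (t.length : ℕ∞)) s ⟨hs, hs'.le⟩),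
    fun i => ⟨s.step i, fun c h1 h2 => ?_⟩⟩
  let t := s.insertNth i c h1 h2
  have ht0 : t.head = a := by
    show Fin.insertNth (α := fun _ => α) i.succ.castSucc c s.toFun 0 = a
    rw [Fin.insertNth_apply_below (by simp [Fin.lt_def])]
    simp only [Fin.castPred_zero, eq_rec_constant]
    exact hs
  have ht1 : t.last = b := by
    show Fin.insertNth (α := fun _ => α) i.succ.castSucc c s.toFun (Fin.last _) = b
    rw [Fin.insertNth_apply_above (by simp only [Fin.lt_def, Fin.val_castSucc, Fin.val_succ, Fin.val_last]; omega)]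
    simp only [Fin.pred_last, eq_rec_constant]
    exact hs'
  have := hmax t ht0 ht1.le
  have : t.length = s.length + 1 := rfl
  omega

theorem dist_ne_top (h : CatOrd α) {a b : α} (hab : a ≤ b) : dist a b ≠ ⊤ := by
  obtain ⟨n, hn⟩ := h.1 a b hab
  obtain ⟨s, -, -, hd, -⟩ := exists_saturated hab hn
  rw [hd]; exact ENat.natCast_ne_top _

theorem length_eq_dist (h : CatOrd α) (s : LTSeries α)
    (hs : ∀ i : Fin s.length, s (Fin.castSucc i) ⋖ s (Fin.succ i)) : (s.length : ℕ∞) = dist s.head s.last := by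
  obtain ⟨n, hn⟩ := h.1 s.head s.last s.head_le_last
  obtain ⟨t, ht, ht', hd, hts⟩ := exists_saturated s.head_le_last hn
  rw [hd, h.2 s t ht.symm ht'.symm hs hts]

theorem catOrd_of_dist (hfin : ∀ a b : α, a ≤ b → dist a b ≠ ⊤)
    (hlen : ∀ s : LTSeries α, (∀ i : Fin s.length, s (Fin.castSucc i) ⋖ s (Fin.succ i)) →
      (s.length : ℕ∞) = dist s.head s.last) : CatOrd α := by
  refine ⟨fun p q hpq => ⟨(dist p q).toNat, fun s hs hs' => ?_⟩, fun s t hh hl hs ht => ?_⟩
  · have h1 : (s.length : ℕ∞) ≤ dist p q :=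
      le_iSup₂ (f := fun (t : LTSeries α) (_ : t.head = p ∧ t.last ≤ q) => (t.length : ℕ∞)) s ⟨hs, hs'.le⟩
    rw [← ENat.natCast_toNat (hfin p q hpq)] at h1
    exact_mod_cast h1
  · have h := hlen s hs
    rw [hh, hl, ← hlen t ht] at h
    exact_mod_cast h

theorem dist_add (h : CatOrd α) {a b c : α} (hab : a ≤ b) (hbc : b ≤ c) :
    dist a c = dist a b + dist b c := by
  obtain ⟨n, hn⟩ := h.1 a b hab
  obtain ⟨m, hm⟩ := h.1 b c hbc
  obtain ⟨s, hs, hs', hsd, hss⟩ := exists_saturated hab hn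
  obtain ⟨t, ht, ht', htd, hts⟩ := exists_saturated hbc hm
  have hcon : s.last = t.head := hs'.trans ht.symm
  have h' := length_eq_dist h (s.smash t hcon)
    (Fin.addCases (fun i => by
        show (s.smash t hcon) (Fin.castAdd t.length i).castSucc ⋖ (s.smash t hcon) (Fin.castAdd t.length i).succ
        erw [RelSeries.smash_castAdd hcon i, RelSeries.smash_succ_castAdd hcon i]
        exact hss i)
      fun i => by
        erw [RelSeries.smash_natAdd hcon i, RelSeries.smash_succ_natAdd hcon i]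
        exact hts i)
  rw [RelSeries.head_smash, RelSeries.last_smash, hs, ht', RelSeries.smash_length, Nat.cast_add] at h'
  rw [← h', hsd, htd]

theorem catOrd_of_additive (hfin : ∀ a b : α, a ≤ b → dist a b ≠ ⊤)
    (hadd : ∀ a b c : α, a ≤ b → b ≤ c → dist a c = dist a b + dist b c) : CatOrd α := by
  have hself : ∀ a : α, dist a a = 0 := fun a => by
    obtain ⟨k, hk⟩ := ENat.ne_top_iff_exists.1 (hfin a a le_rfl)
    have h := hadd a a a le_rfl le_rfl
    rw [← hk] at h ⊢
    have : k = k + k := by exact_mod_cast h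
    exact_mod_cast (by omega : k = 0)
  have hcov : ∀ a b : α, a ⋖ b → dist a b = 1 := fun a b hab => by
    refine le_antisymm (iSup₂_le fun s hs => ?_) ?_
    · by_contra hlt
      have h2 : 2 ≤ s.length := by
        by_contra hh
        exact hlt (by exact_mod_cast (by omega : s.length ≤ 1))
      have h3 : s.head < s ⟨1, by omega⟩ := s.strictMono (by simp [Fin.lt_def])
      have h4 : s ⟨1, by omega⟩ < s.last := s.strictMono (by simp only [Fin.lt_def, Fin.val_last]; omega)
      exact hab.2 (hs.1 ▸ h3) (h4.trans_le hs.2)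
    · refine le_trans (le_of_eq ?_) (le_iSup₂ (f := fun (t : LTSeries α) (_ : t.head = a ∧ t.last ≤ b) =>
        (t.length : ℕ∞)) ((RelSeries.singleton _ a).snoc b hab.lt) ⟨by rw [RelSeries.head_snoc]; rfl,
          (RelSeries.last_snoc _ _ _).le⟩)
      rfl
  refine catOrd_of_dist hfin fun s hs => ?_
  suffices ∀ i : Fin (s.length + 1), ((i : ℕ) : ℕ∞) = dist s.head (s i) by simpa [RelSeries.last] using this (Fin.last _)
  intro i
  induction i using Fin.induction with
  | zero => exact (hself _).symm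
  | succ i ih =>
    rw [hadd s.head (s i.castSucc) (s i.succ) (s.monotone (Fin.zero_le _)) (hs i).le, hcov _ _ (hs i), ← ih]
    simp

/-- A function which drops by one along covers makes an order catenary. -/
theorem catOrd_of_rank (δ : α → ℤ) (hmono : ∀ a b : α, a < b → δ a < δ b)
    (hcov : ∀ a b : α, a ⋖ b → δ b = δ a + 1) :
    CatOrd α ∧ ∀ a b : α, a ≤ b → dist a b = ((δ b - δ a).toNat : ℕ∞) := by
  have hlen : ∀ s : LTSeries α, (s.length : ℤ) ≤ δ s.last - δ s.head := fun s => by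
    suffices ∀ i : Fin (s.length + 1), ((i : ℕ) : ℤ) ≤ δ (s i) - δ s.head by simpa [RelSeries.last] using this (Fin.last _)
    intro i
    induction i using Fin.induction with
    | zero => simp [RelSeries.head]
    | succ i ih =>
      have h := hmono _ _ (s.step i)
      rw [Fin.val_succ]
      rw [Fin.val_castSucc] at ih
      omega
  have hsat : ∀ s : LTSeries α, (∀ i : Fin s.length, s (Fin.castSucc i) ⋖ s (Fin.succ i)) →
      (s.length : ℤ) = δ s.last - δ s.head := fun s hs => by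
    suffices ∀ i : Fin (s.length + 1), ((i : ℕ) : ℤ) = δ (s i) - δ s.head by simpa [RelSeries.last] using this (Fin.last _)
    intro i
    induction i using Fin.induction with
    | zero => simp [RelSeries.head]
    | succ i ih =>
      rw [hcov _ _ (hs i), Fin.val_succ]
      rw [Fin.val_castSucc] at ih
      omega
  have hbd : ∀ a b : α, a ≤ b → ∀ s : LTSeries α, s.head = a → s.last = b → s.length ≤ (δ b - δ a).toNat :=
    fun a b _ s hs hs' => by
      have := hlen s
      rw [hs, hs'] at this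
      omega
  refine ⟨⟨fun p q h => ⟨_, hbd p q h⟩, fun s t hh hl hs ht => ?_⟩, fun a b hab => ?_⟩
  · have h1 := hsat s hs
    have h2 := hsat t ht
    rw [hh, hl] at h1
    omega
  · obtain ⟨s, hs, hs', hd, hss⟩ := exists_saturated hab (hbd a b hab)
    have := hsat s hss
    rw [hs, hs'] at this
    rw [hd]
    exact_mod_cast (by omega : s.length = (δ b - δ a).toNat)

section Space

variable {X : Type u} [TopologicalSpace X]

theorem codim_eq_dist (T T' : IrreducibleCloseds X) : PtTop.codim T (T' : Set X) = dist T T' := rfl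

theorem isCatenarySpace_iff : PtTop.IsCatenarySpace X ↔ CatOrd (IrreducibleCloseds X) := by
  constructor
  · intro h
    refine catOrd_of_dist (fun a b hab => (h a b hab).1) fun s hs => ?_
    exact (h _ _ s.head_le_last).2 s rfl rfl hs
  · intro h T T' hT
    refine ⟨dist_ne_top h hT, fun s hs hs' hcov => ?_⟩
    rw [length_eq_dist h s hcov, hs, hs']
    rfl

/-- The order embedding of irreducible closeds along an inducing map. -/
noncomputable def mapEmb {Y : Type u} [TopologicalSpace Y] (f : Y → X) (hf : IsInducing f) :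
    IrreducibleCloseds Y ↪o IrreducibleCloseds X :=
  OrderEmbedding.ofMapLEIff (IrreducibleCloseds.map f hf.continuous) fun a b => by
    refine ⟨fun h => ?_, fun h => IrreducibleCloseds.map_mono hf.continuous h⟩
    have h' : closure (f '' a) ⊆ closure (f '' b) := h
    show (a : Set Y) ⊆ b
    rw [← a.isClosed.closure_eq, ← b.isClosed.closure_eq, hf.closure_eq_preimage_closure_image,
      hf.closure_eq_preimage_closure_image]
    exact Set.preimage_mono h'

theorem mem_range_mapEmb_open {U : Set X} (hU : IsOpen U) {T : IrreducibleCloseds X}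
    (h : ((T : Set X) ∩ U).Nonempty) : T ∈ Set.range (mapEmb (Subtype.val : U → X) IsInducing.subtypeVal) := by
  obtain ⟨x, hxT, hxU⟩ := h
  refine ⟨⟨Subtype.val ⁻¹' (T : Set X), ⟨⟨⟨x, hxU⟩, hxT⟩,
    T.isIrreducible.isPreirreducible.preimage hU.isOpenEmbedding_subtypeVal⟩,
    T.isClosed.preimage continuous_subtype_val⟩, IrreducibleCloseds.ext ?_⟩
  show closure (Subtype.val '' (Subtype.val ⁻¹' (T : Set X))) = T
  rw [Subtype.image_preimage_coe]
  refine subset_antisymm (closure_minimal Set.inter_subset_right T.isClosed) ?_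
  rw [Set.inter_comm]
  exact subset_closure_inter_of_isPreirreducible_of_isOpen T.isIrreducible.isPreirreducible hU ⟨x, hxT, hxU⟩

theorem ordConnected_range_mapEmb {U Z : Set X} (hU : IsOpen U) (hZ : IsClosed Z) :
    (Set.range (mapEmb (Subtype.val : ↥(U ∩ Z) → X) IsInducing.subtypeVal)).OrdConnected := by
  have key : ∀ a : IrreducibleCloseds ↥(U ∩ Z),
      ((mapEmb _ IsInducing.subtypeVal a : IrreducibleCloseds X) : Set X) ∩ U ⊆ Z := fun a => fun x hx =>
    closure_minimal (by rintro _ ⟨y, -, rfl⟩; exact y.2.2) hZ hx.1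
  refine ⟨fun S hS T hT W hW => ?_⟩
  obtain ⟨a, rfl⟩ := hS
  obtain ⟨b, rfl⟩ := hT
  obtain ⟨y, hy⟩ := a.isIrreducible.nonempty
  have hyW : (y : X) ∈ (W : Set X) := hW.1 (subset_closure ⟨y, hy, rfl⟩)
  have hWZ : (W : Set X) ∩ U ⊆ Z := fun x hx => key b ⟨hW.2 hx.1, hx.2⟩
  refine ⟨⟨Subtype.val ⁻¹' (W : Set X), ⟨⟨y, hyW⟩, ?_⟩, W.isClosed.preimage continuous_subtype_val⟩,
    IrreducibleCloseds.ext ?_⟩
  · rintro u v hu hv ⟨y₁, hy₁, hy₁u⟩ ⟨y₂, hy₂, hy₂v⟩
    obtain ⟨u', hu', rfl⟩ := isOpen_induced_iff.1 hu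
    obtain ⟨v', hv', rfl⟩ := isOpen_induced_iff.1 hv
    obtain ⟨z, hzW, ⟨hzU, hzu⟩, -, hzv⟩ := W.isIrreducible.isPreirreducible (U ∩ u') (U ∩ v') (hU.inter hu')
      (hU.inter hv') ⟨y₁, hy₁, y₁.2.1, hy₁u⟩ ⟨y₂, hy₂, y₂.2.1, hy₂v⟩
    exact ⟨⟨z, hzU, hWZ ⟨hzW, hzU⟩⟩, hzW, hzu, hzv⟩
  · show closure (Subtype.val '' (Subtype.val ⁻¹' (W : Set X))) = W
    rw [Subtype.image_preimage_coe, show U ∩ Z ∩ (W : Set X) = (W : Set X) ∩ U from
      Set.ext fun x => ⟨fun h => ⟨h.2, h.1.1⟩, fun h => ⟨⟨h.2, hWZ h⟩, h.1⟩⟩]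
    exact subset_antisymm (closure_minimal Set.inter_subset_left W.isClosed)
      (subset_closure_inter_of_isPreirreducible_of_isOpen W.isIrreducible.isPreirreducible hU ⟨y, hyW, y.2.1⟩)

theorem isCatenarySpace_locallyClosed (h : PtTop.IsCatenarySpace X) (S : Set X) (hS : IsLocallyClosed S) :
    PtTop.IsCatenarySpace S := by
  obtain ⟨U, Z, hU, hZ, rfl⟩ := hS
  exact isCatenarySpace_iff.2 (catOrd_of_convex _ (ordConnected_range_mapEmb hU hZ) (isCatenarySpace_iff.1 h))

theorem isCatenarySpace_iff_cover :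
    PtTop.IsCatenarySpace X ↔ ∀ x : X, ∃ U : Opens X, x ∈ U ∧ PtTop.IsCatenarySpace U := by
  refine ⟨fun h x => ⟨⊤, trivial, isCatenarySpace_locallyClosed h _ (Opens.isOpen ⊤).isLocallyClosed⟩, fun h => ?_⟩
  choose U hxU hU using h
  refine isCatenarySpace_iff.2 (catOrd_of_cover (fun x : X => IrreducibleCloseds (U x : Set X))
    (fun x => mapEmb (Y := ↥(U x : Set X)) Subtype.val IsInducing.subtypeVal) (fun T => ?_)
    fun x => isCatenarySpace_iff.1 (hU x))
  obtain ⟨x, hx⟩ := T.isIrreducible.nonempty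
  exact ⟨x, fun T' hT' => mem_range_mapEmb_open (U x).isOpen ⟨x, hT' hx, hxU x⟩⟩

end Space

end Groth.Agent.CatSpaceLib
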