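import Groth.Agent.CatSpaceLib.Order
import Groth.Agent.DimFormulaLib.Field
import Groth.Agent.DimFormulaLib.Local

/-!
Catenary schemes and dimension functions.
-/

set_option autoImplicit false

universe u

open CategoryTheory AlgebraicGeometry Topology TopologicalSpace

namespace Groth.Agent.CatSpaceLib

section Sober

variable {X : Type u} [TopologicalSpace X]

/-- The irreducible closed set of a point. -/
def ofPoint (x : X) : IrreducibleCloseds X := ⟨closure {x}, isIrreducible_singleton.closure, isClosed_closure⟩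

theorem ofPoint_le {x y : X} : ofPoint x ≤ ofPoint y ↔ y ⤳ x :=
  ⟨fun h => specializes_iff_mem_closure.2 (h (subset_closure rfl)), fun h => h.closure_subset⟩

theorem exists_ofPoint [QuasiSober X] (T : IrreducibleCloseds X) : ∃ x, ofPoint x = T := by
  obtain ⟨x, hx⟩ := QuasiSober.sober T.isIrreducible T.isClosed
  exact ⟨x, IrreducibleCloseds.ext hx.def⟩

theorem rank_of_dimensionFunction [QuasiSober X] [T0Space X] (δ : X → ℤ) (hδ : PtTop.IsDimensionFunction δ) :
    CatOrd (IrreducibleCloseds X) ∧ ∀ x y : X, x ⤳ y → dist (ofPoint y) (ofPoint x) = ((δ x - δ y).toNat : ℕ∞) := by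
  choose η hη using fun T : IrreducibleCloseds X => exists_ofPoint T
  have hle : ∀ {T T' : IrreducibleCloseds X}, T ≤ T' ↔ η T' ⤳ η T := fun {T T'} => by
    rw [← ofPoint_le, hη, hη]
  have hinj : ∀ {T T' : IrreducibleCloseds X}, η T = η T' → T = T' := fun {T T'} h => by rw [← hη T, h, hη]
  have hηx : ∀ x : X, η (ofPoint x) = x := fun x => by
    have h := hη (ofPoint x)
    exact ((ofPoint_le.1 h.ge).antisymm (ofPoint_le.1 h.le)).eq
  have key := catOrd_of_rank (fun T => δ (η T)) (fun T T' h => hδ.1 _ _ (hle.1 h.le) fun e => h.ne (hinj e.symm))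
    (fun T T' h => hδ.2 _ _ ⟨hle.1 h.le, fun e => h.ne (hinj e.symm), fun z h1 h2 => by
      by_contra hz
      rw [not_or] at hz
      refine h.2 (c := ofPoint z) (lt_of_le_of_ne ((hle).2 (by rw [hηx]; exact h2)) fun e => hz.2 ?_)
        (lt_of_le_of_ne ((hle).2 (by rw [hηx]; exact h1)) fun e => hz.1 ?_)
      · rw [← hηx z, e]
      · rw [← hηx z, e]⟩)
  refine ⟨key.1, fun x y h => ?_⟩
  rw [key.2 _ _ (ofPoint_le.2 h), hηx, hηx]

end Sober

variable {X : Scheme.{u}}

/-- The irreducible closed sets through a preimmersed spectrum. -/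
noncomputable def primeEmb {R : CommRingCat.{u}} (g : Spec R ⟶ X) [IsPreimmersion g] :
    (PrimeSpectrum R)ᵒᵈ ↪o IrreducibleCloseds ↥X :=
  OrderEmbedding.ofMapLEIff (fun p => ofPoint (g (OrderDual.ofDual p))) fun p q => by
    rw [ofPoint_le, g.isEmbedding.isInducing.specializes_iff]
    exact (PrimeSpectrum.le_iff_specializes _ _).symm

theorem mem_range_primeEmb {R : CommRingCat.{u}} (g : Spec R ⟶ X) [IsPreimmersion g] {T : IrreducibleCloseds ↥X}
    {x : X} (hx : ofPoint x = T) (h : x ∈ Set.range g) : T ∈ Set.range (primeEmb g) := by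
  obtain ⟨p, rfl⟩ := h
  exact ⟨OrderDual.toDual p, hx⟩

theorem isCatenary_of_isCatenarySpace (h : PtTop.IsCatenarySpace X) {R : CommRingCat.{u}} (g : Spec R ⟶ X)
    [IsPreimmersion g] (hg : ∀ a b : X, a ⤳ b → b ∈ Set.range g → a ∈ Set.range g) : CAlg.IsCatenary R := by
  refine catOrd_of_dual (α := PrimeSpectrum R) (catOrd_of_convex (primeEmb g) ?_ (isCatenarySpace_iff.1 h))
  refine ⟨fun S hS T _ W hW => ?_⟩
  obtain ⟨w, hw⟩ := exists_ofPoint W
  obtain ⟨p, rfl⟩ := hS
  exact mem_range_primeEmb g hw (hg w _ (ofPoint_le.1 (hW.1.trans_eq hw.symm)) ⟨_, rfl⟩)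

theorem isCatenarySpace_of_cover {ι : Type u} (R : ι → CommRingCat.{u}) (g : ∀ i, Spec (R i) ⟶ X)
    [∀ i, IsPreimmersion (g i)] (hg : ∀ i, ∀ a b : X, a ⤳ b → b ∈ Set.range (g i) → a ∈ Set.range (g i))
    (hcov : ∀ x : X, ∃ i, x ∈ Set.range (g i)) (h : ∀ i, CAlg.IsCatenary (R i)) : PtTop.IsCatenarySpace X := by
  refine isCatenarySpace_iff.2 (catOrd_of_cover (fun i => (PrimeSpectrum (R i))ᵒᵈ) (fun i => primeEmb (g i))
    (fun T => ?_) fun i => catOrd_dual (h i))
  obtain ⟨x, hx⟩ := exists_ofPoint T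
  obtain ⟨i, hi⟩ := hcov x
  refine ⟨i, fun W hW => ?_⟩
  obtain ⟨w, hw⟩ := exists_ofPoint W
  exact mem_range_primeEmb (g i) hw (hg i w x (ofPoint_le.1 (hx ▸ hw ▸ hW)) hi)

theorem stalk_generization (x : X) (a b : X) (hab : a ⤳ b) (hb : b ∈ Set.range (X.fromSpecStalk x)) :
    a ∈ Set.range (X.fromSpecStalk x) := by
  rw [Scheme.range_fromSpecStalk] at hb ⊢
  exact hab.trans hb

theorem isCatenarySpace_iff_stalks :
    PtTop.IsCatenarySpace X ↔ ∀ x : X, CAlg.IsCatenary (X.presheaf.stalk x) :=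
  ⟨fun h x => isCatenary_of_isCatenarySpace h (X.fromSpecStalk x) (stalk_generization x),
    fun h => isCatenarySpace_of_cover (fun x : X => X.presheaf.stalk x) (fun x => X.fromSpecStalk x)
      (fun x => stalk_generization x) (fun x => ⟨x, by rw [Scheme.range_fromSpecStalk]; exact specializes_rfl⟩) h⟩

theorem open_generization {Z : Scheme.{u}} (g : Z ⟶ X) [IsOpenImmersion g] (a b : X) (hab : a ⤳ b)
    (hb : b ∈ Set.range g) : a ∈ Set.range g :=
  hab.mem_open g.isOpenEmbedding.isOpen_range hb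

theorem isCatenary_of_affine (h : PtTop.IsCatenarySpace X) (U : X.affineOpens) :
    CAlg.IsCatenary Γ(X, U) :=
  isCatenary_of_isCatenarySpace h U.2.fromSpec (open_generization U.2.fromSpec)

theorem isCatenarySpace_of_affine_cover
    (h : ∀ s : X, ∃ U : X.affineOpens, s ∈ (U : X.Opens) ∧ CAlg.IsCatenary Γ(X, U)) :
    PtTop.IsCatenarySpace X := by
  choose U hsU hU using h
  exact isCatenarySpace_of_cover (fun s : X => Γ(X, (U s).1)) (fun s => (U s).2.fromSpec)
    (fun s => open_generization (U s).2.fromSpec) (fun s => ⟨s, by rw [(U s).2.range_fromSpec]; exact hsU s⟩) hU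

theorem exists_affine (s : X) : ∃ U : X.affineOpens, s ∈ (U : X.Opens) := by
  obtain ⟨U, hU, hs, -⟩ := exists_isAffineOpen_mem_and_subset (X := X) (x := s) (U := ⊤) trivial
  exact ⟨⟨U, hU⟩, hs⟩

/-- Universally catenary schemes are those with universally catenary local rings. -/
theorem forall_isCatenarySpace_iff (S : Scheme.{u}) [IsLocallyNoetherian S] :
    (∀ (X : Scheme.{u}) (f : X ⟶ S), LocallyOfFiniteType f → PtTop.IsCatenarySpace X) ↔
      ∀ s : S, CAlg.IsUniversallyCatenary (S.presheaf.stalk s) := by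
  constructor
  · intro h s
    obtain ⟨U, hs⟩ := exists_affine s
    haveI : IsNoetherianRing Γ(S, U.1) := IsLocallyNoetherian.component_noetherian U
    have hR : CAlg.IsUniversallyCatenary Γ(S, U.1) := ⟨inferInstance, fun T _ _ hT => by
      have hm : LocallyOfFiniteType (Spec.map (CommRingCat.ofHom (algebraMap Γ(S, U.1) T))) :=
        HasRingHomProperty.Spec_iff.2 (RingHom.finiteType_algebraMap.2 hT)
      haveI := hm
      have h' := h _ (Spec.map (CommRingCat.ofHom (algebraMap Γ(S, U.1) T)) ≫ U.2.fromSpec) inferInstance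
      exact isCatenary_of_isCatenarySpace h' (𝟙 (Spec (CommRingCat.of T))) (fun a _ _ _ => ⟨a, rfl⟩)⟩
    let y : ↥(U.1 : S.Opens) := ⟨s, hs⟩
    letI := TopCat.Presheaf.algebra_section_stalk S.presheaf y
    haveI : IsLocalization.AtPrime (S.presheaf.stalk y.1) (U.2.primeIdealOf y).asIdeal :=
      U.2.isLocalization_stalk y
    exact DimFormulaLib.isUniversallyCatenary_of_isLocalization (U.2.primeIdealOf y).asIdeal.primeCompl hR
  · intro h X f hf
    choose c hc using fun x : X => (⟨Classical.choice (DimFormulaLib.exists_chart f x), rfl⟩ :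
      ∃ c : DimFormulaLib.Chart f x, c = c)
    haveI := fun x => (c x).isNoetherianRing
    refine isCatenarySpace_of_cover (fun x : X => CommRingCat.of (c x).B) (fun x => (c x).j)
      (fun x => open_generization (c x).j) (fun x => ⟨x, (c x).q, (c x).hq⟩) fun x => ?_
    have hA : CAlg.IsUniversallyCatenary (c x).A := by
      refine DimFormulaLib.isUniversallyCatenary_of_localization_maximal fun m _ => ?_
      let z : ↥(Spec (.of (c x).A)) := (⟨m, inferInstance⟩ : PrimeSpectrum (c x).A)
      let e : S.presheaf.stalk ((c x).i z) ≃+* Localization.AtPrime m :=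
        (asIso ((c x).i.stalkMap z) ≪≫ AlgebraicGeometry.Spec.stalkIso (.of (c x).A) z).commRingCatIsoToRingEquiv
      exact RatliffLib.isUniversallyCatenary_of_surjective e.toRingHom e.surjective (h _)
    exact hA.2 _ inferInstance

end Groth.Agent.CatSpaceLib
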